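import Groth.Agent.GrpFieldLib.DominantFlat
import Groth.Agent.FpqcDescLib.Group
import Groth.Agent.S5223
import Mathlib.AlgebraicGeometry.Morphisms.ClosedImmersion
import Mathlib.AlgebraicGeometry.AffineScheme

/-! Flatness of a homomorphism spreads from the unit by translation. -/

set_option backward.isDefEq.respectTransparency false
set_option backward.isDefEq.respectTransparency.types false

universe u

open CategoryTheory MonoidalCategory CartesianMonoidalCategory MonObj AlgebraicGeometry Limits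

namespace Groth.Agent.GrpPointIso

theorem flat_of_flat_unit {k : Type u} [Field k] {G H : Over (Spec (CommRingCat.of k))} [GrpObj G]
    [GrpObj H] (f : G ⟶ H) [IsMonHom f]
    (he : (f.left.stalkMap (η[G].left (IsLocalRing.closedPoint k))).hom.Flat) : Flat f.left := by
  have hflat : ∀ {X : Scheme.{u}} (g : X ⟶ Spec (CommRingCat.of k)), Flat g := fun g => by
    have : Subsingleton (Spec (CommRingCat.of k)) := inferInstanceAs (Subsingleton (PrimeSpectrum k))
    infer_instance
  refine Flat.of_stalkMap f.left fun x => ?_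
  let Y : Over (Spec (CommRingCat.of k)) := Over.mk (G.left.fromSpecResidueField x ≫ G.hom)
  let gy : Y ⟶ G := Over.homMk (G.left.fromSpecResidueField x) rfl
  let σG : Y ⊗ G ⟶ Y ⊗ G := lift (SemiCartesianMonoidalCategory.fst Y G)
    ((SemiCartesianMonoidalCategory.fst Y G ≫ gy) * SemiCartesianMonoidalCategory.snd Y G)
  let σH : Y ⊗ H ⟶ Y ⊗ H := lift (SemiCartesianMonoidalCategory.fst Y H)
    ((SemiCartesianMonoidalCategory.fst Y H ≫ gy ≫ f) * SemiCartesianMonoidalCategory.snd Y H)
  let τG : Y ⊗ G ⟶ Y ⊗ G := lift (SemiCartesianMonoidalCategory.fst Y G)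
    ((SemiCartesianMonoidalCategory.fst Y G ≫ gy)⁻¹ * SemiCartesianMonoidalCategory.snd Y G)
  let τH : Y ⊗ H ⟶ Y ⊗ H := lift (SemiCartesianMonoidalCategory.fst Y H)
    ((SemiCartesianMonoidalCategory.fst Y H ≫ gy ≫ f)⁻¹ * SemiCartesianMonoidalCategory.snd Y H)
  have : IsIso σG := ⟨τG, by
    constructor <;> apply CartesianMonoidalCategory.hom_ext <;>
      simp [σG, τG, MonObj.comp_mul, GrpObj.comp_inv]⟩
  have : IsIso σH := ⟨τH, by
    constructor <;> apply CartesianMonoidalCategory.hom_ext <;>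
      simp [σH, τH, MonObj.comp_mul, GrpObj.comp_inv]⟩
  have : IsIso σG.left := inferInstanceAs (IsIso ((Over.forget _).map σG))
  have : IsIso σH.left := inferInstanceAs (IsIso ((Over.forget _).map σH))
  have hcomm : σG ≫ (Y ◁ f) = (Y ◁ f) ≫ σH := by
    apply CartesianMonoidalCategory.hom_ext <;>
      simp [σG, σH, MonObj.comp_mul, MonObj.mul_comp]
  let s : Y ⟶ Y ⊗ G := lift (𝟙 Y) 1
  let p₀ : ↥(Y ⊗ G).left := s.left (IsLocalRing.closedPoint (G.left.residueField x))
  haveI : Flat ((Over.forget (Spec (CommRingCat.of k))).map (SemiCartesianMonoidalCategory.snd Y H)) :=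
    MorphismProperty.pullback_snd _ _ (hflat Y.hom)
  have hsq := fun z => S5223.result ((FpqcDescLib.isPullback_whiskerLeft f Y).map (Over.forget _)).flip z
  have h0 : ((SemiCartesianMonoidalCategory.snd Y G).left p₀) = η[G].left (IsLocalRing.closedPoint k) := by
    show ((s.left ≫ (SemiCartesianMonoidalCategory.snd Y G).left) _) = _
    rw [← Over.comp_left, show s ≫ SemiCartesianMonoidalCategory.snd Y G = toUnit Y ≫ η[G] from
      (lift_snd _ _).trans Hom.one_def, Over.comp_left, Scheme.Hom.comp_apply]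
    congr 1
    exact @Subsingleton.elim (PrimeSpectrum k) inferInstance _ _
  have hp₀ : ((Y ◁ f).left.stalkMap p₀).hom.Flat := (hsq p₀).mpr (by
    show (f.left.stalkMap ((SemiCartesianMonoidalCategory.snd Y G).left p₀)).hom.Flat
    rw [h0]; exact he)
  have h1 : (((Y ◁ f).left ≫ σH.left).stalkMap p₀).hom.Flat :=
    GrpFieldLib.flat_stalkMap_comp _ _ p₀ hp₀ (Flat.stalkMap _ _)
  rw [← Over.comp_left, ← hcomm, Over.comp_left] at h1
  have h2 := GrpFieldLib.flat_stalkMap_cancel σG.left (Y ◁ f).left p₀ (Flat.stalkMap _ _) h1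
  have hx : (SemiCartesianMonoidalCategory.snd Y G).left (σG.left p₀) = x := by
    show ((s.left ≫ σG.left ≫ (SemiCartesianMonoidalCategory.snd Y G).left) _) = _
    rw [← Over.comp_left, ← Over.comp_left, show s ≫ σG ≫ SemiCartesianMonoidalCategory.snd Y G = gy by
      simp [s, σG, MonObj.comp_mul]]
    exact Scheme.fromSpecResidueField_apply _ _
  have h3 : (f.left.stalkMap ((SemiCartesianMonoidalCategory.snd Y G).left (σG.left p₀))).hom.Flat :=
    (hsq (σG.left p₀)).mp h2
  rwa [hx] at h3

/-- A closed immersion of affine schemes whose kernel is infinitesimally invisible at a point is flat there. -/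
theorem flat_stalkMap_of_forall_ker {P U : Scheme.{u}} [IsAffine P] [IsAffine U] (q : P ⟶ U) [IsClosedImmersion q] (z : P)
    (h : ∀ a : Γ(U, ⊤), q.appTop a = 0 → ∃ r : Γ(U, ⊤),
      U.presheaf.germ ⊤ (q z) trivial r ∈ IsLocalRing.maximalIdeal (U.presheaf.stalk (q z)) ∧ r * a = a) :
    (q.stalkMap z).hom.Flat := by
  refine RingHom.Flat.of_bijective ⟨?_, q.stalkMap_surjective z⟩
  refine (isAffineOpen_top U).stalkMap_injective q z trivial fun g hg => ?_
  letI := P.presheaf.algebra_section_stalk (U := (⊤ : P.Opens)) ⟨z, trivial⟩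
  haveI := (isAffineOpen_top P).isLocalization_stalk ⟨z, trivial⟩
  erw [Scheme.Hom.germ_stalkMap_apply] at hg
  obtain ⟨⟨v, hv⟩, hvg⟩ := (IsLocalization.map_eq_zero_iff
    ((isAffineOpen_top P).primeIdealOf ⟨z, trivial⟩).asIdeal.primeCompl (P.presheaf.stalk z) (q.appTop g)).1 hg
  have hvu : IsUnit (P.presheaf.germ ⊤ z trivial v) :=
    IsLocalization.map_units (M := ((isAffineOpen_top P).primeIdealOf ⟨z, trivial⟩).asIdeal.primeCompl)
      (P.presheaf.stalk z) ⟨v, hv⟩
  obtain ⟨v', rfl⟩ : ∃ v', q.appTop v' = v := (IsClosedImmersion.isAffine_surjective_of_isAffine q).2 v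
  have hv' : IsUnit (U.presheaf.germ ⊤ (q z) trivial v') := isUnit_of_map_unit (q.stalkMap z).hom _ (by
    erw [Scheme.Hom.germ_stalkMap_apply]; exact hvu)
  obtain ⟨r, hr, hra⟩ := h (v' * g) (by rw [map_mul]; exact hvg)
  have h1 := congrArg (U.presheaf.germ ⊤ (q z) trivial) hra
  rw [map_mul, map_mul] at h1
  have hu : IsUnit (1 - U.presheaf.germ ⊤ (q z) trivial r) :=
    IsLocalRing.isUnit_one_sub_self_of_mem_nonunits _ ((IsLocalRing.mem_maximalIdeal _).mp hr)
  refine (hu.mul hv').mul_right_eq_zero.mp ?_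
  linear_combination -h1

end Groth.Agent.GrpPointIso
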