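import Groth.Agent.GrpPointIso.Flat
import Groth.Agent.FrobQuot.Kernel
import Groth.Agent.GrpSchLib.HomFinite
import Groth.Agent.GrpSchLib.KernelGrp
import Groth.Agent.GrpSchLib.Cartier
import Groth.Agent.GrpSchLib.SmoothReduced
import Mathlib.FieldTheory.IsAlgClosed.Basic
import Mathlib.RingTheory.Filtration

/-! Isomorphisms of commutative affine algebraic groups are detected by finite subgroups and geometric points. -/

set_option backward.isDefEq.respectTransparency false
set_option backward.isDefEq.respectTransparency.types false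
set_option linter.style.haveILetI false

universe u

open CategoryTheory MonoidalCategory CartesianMonoidalCategory MonObj GrpObj AlgebraicGeometry Limits

namespace Groth.Agent.GrpPointIso

open GrpSchLib GrpSchLib.Kunneth GrpSchLib.LineGroups GrpSchLib.Adjoint

variable {k : Type u} [Field k]

/-- Over any closed point of a scheme locally of finite type lies a point in an algebraic closure. -/
theorem exists_point_over_closed (K : Type u) [Field K] [Algebra k K] [IsAlgClosure k K] {X : Scheme.{u}}
    (g : X ⟶ Spec (CommRingCat.of k)) [LocallyOfFiniteType g] (z : X) (hz : IsClosed ({z} : Set X)) :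
    ∃ x : Spec (CommRingCat.of K) ⟶ X, x ≫ g = Spec.map (CommRingCat.ofHom (algebraMap k K)) ∧
      x (IsLocalRing.closedPoint K) = z := by
  haveI : IsAlgClosed K := IsAlgClosure.isAlgClosed k
  haveI : IsClosedImmersion (X.fromSpecResidueField z) :=
    IsClosedImmersion.of_isPreimmersion _ (by rw [Scheme.range_fromSpecResidueField]; exact hz)
  let r : CommRingCat.of k ⟶ X.residueField z := Spec.preimage (X.fromSpecResidueField z ≫ g)
  have hr : Spec.map r = X.fromSpecResidueField z ≫ g := Spec.map_preimage _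
  letI := r.hom.toAlgebra
  haveI : LocallyOfFiniteType (Spec.map r) := by rw [hr]; infer_instance
  haveI : Algebra.FiniteType k (X.residueField z) :=
    (HasRingHomProperty.Spec_iff (P := @LocallyOfFiniteType)).1 ‹LocallyOfFiniteType (Spec.map r)›
  haveI : Module.Finite k (X.residueField z) := finite_of_finite_type_of_isJacobsonRing k (X.residueField z)
  haveI : Algebra.IsAlgebraic k (X.residueField z) := Algebra.IsAlgebraic.of_finite k _
  let φ : X.residueField z →ₐ[k] K := IsAlgClosed.lift
  refine ⟨Spec.map (CommRingCat.ofHom φ.toRingHom) ≫ X.fromSpecResidueField z, ?_, ?_⟩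
  · rw [Category.assoc, ← hr, ← Spec.map_comp]
    congr 1
    exact CommRingCat.hom_ext (RingHom.ext φ.commutes)
  · rw [Scheme.Hom.comp_apply]
    exact Scheme.fromSpecResidueField_apply _ _

variable (K : Type u) [Field K] [Algebra k K] [IsAlgClosure k K]
  {G H : Over (Spec (CommRingCat.of k))}
  [GrpObj G] [IsCommMonObj G] [GrpObj H] [IsAffine G.left] [IsAffine H.left]
  [LocallyOfFiniteType G.hom] [LocallyOfFiniteType H.hom] (ψ : G ⟶ H) [IsMonHom ψ]

include K in
theorem isClosedImmersion_of_injective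
    (hinj : ∀ (I : Over (Spec (CommRingCat.of k))) [GrpObj I] [IsCommMonObj I] [IsFinite I.hom]
      (f g : I ⟶ G) [IsMonHom f] [IsMonHom g], f ≫ ψ = g ≫ ψ → f = g)
    (hpts : Function.Injective fun x : Over.mk (Spec.map (CommRingCat.ofHom (algebraMap k K))) ⟶ G => x ≫ ψ) :
    IsClosedImmersion ψ.left := by
  let N₀ := Limits.pullback ψ.left (η[H]).left
  let π : N₀ ⟶ Spec (CommRingCat.of k) := Limits.pullback.snd ψ.left (η[H]).left
  haveI : LocallyOfFiniteType ψ.left := by
    have : LocallyOfFiniteType (ψ.left ≫ H.hom) := by rw [Over.w ψ]; infer_instance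
    exact locallyOfFiniteType_of_comp ψ.left H.hom
  haveI : LocallyOfFiniteType π := inferInstanceAs (LocallyOfFiniteType (Limits.pullback.snd ψ.left (η[H]).left))
  have huniq : ∀ a b : N₀, IsClosed ({a} : Set N₀) → IsClosed ({b} : Set N₀) → a = b := by
    intro a b ha hb
    obtain ⟨x, hx, hxa⟩ := exists_point_over_closed K π a ha
    obtain ⟨y, hy, hyb⟩ := exists_point_over_closed K π b hb
    have hG : ∀ (w : Spec (CommRingCat.of K) ⟶ N₀), w ≫ π = Spec.map (CommRingCat.ofHom (algebraMap k K)) →
        (w ≫ Limits.pullback.fst _ _) ≫ G.hom = Spec.map (CommRingCat.ofHom (algebraMap k K)) := fun w hw => by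
      rw [Category.assoc, ← Over.w ψ, Limits.pullback.condition_assoc, Over.w η[H]]
      exact ((congrArg (w ≫ ·) (Category.comp_id π)).trans hw)
    have e := @hpts (Over.homMk (x ≫ Limits.pullback.fst _ _) (hG x hx)) (Over.homMk (y ≫ Limits.pullback.fst _ _) (hG y hy))
      (Over.OverMorphism.ext (by
        show (x ≫ Limits.pullback.fst _ _) ≫ ψ.left = (y ≫ Limits.pullback.fst _ _) ≫ ψ.left
        rw [Category.assoc, Category.assoc, Limits.pullback.condition, ← Category.assoc, ← Category.assoc]
        exact congrArg (· ≫ η[H].left) (hx.trans hy.symm)))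
    have hxy : x = y := Limits.pullback.hom_ext (congrArg CommaMorphism.left e) (hx.trans hy.symm)
    rw [← hxa, ← hyb, hxy]
  haveI : JacobsonSpace N₀ := LocallyOfFiniteType.jacobsonSpace π
  haveI : Subsingleton N₀ := by
    have hc : closure (closedPoints N₀) = Set.univ := closure_closedPoints
    rcases isEmpty_or_nonempty N₀ with h | h
    · infer_instance
    obtain ⟨a, -, ha⟩ := nonempty_inter_closedPoints (Z := (Set.univ : Set N₀)) Set.univ_nonempty isClosed_univ.isLocallyClosed
    have hsingle : closedPoints N₀ = {a} := Set.eq_singleton_iff_unique_mem.2 ⟨ha, fun b hb => huniq b a hb ha⟩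
    rw [hsingle, IsClosed.closure_eq (show IsClosed ({a} : Set N₀) from ha)] at hc
    exact Set.subsingleton_univ_iff.1 (hc ▸ Set.subsingleton_singleton)
  haveI : IsFinite ψ.left := HomFinite.isFinite_of_discrete_ker ψ (by infer_instance)
  haveI : IsSeparated H.hom := inferInstance
  obtain ⟨N, gN, i, hi, hci, -, hk⟩ := exists_kernel ψ
  haveI := hi
  haveI := hci
  haveI : Mono i := (Over.forget _).mono_of_mono_map (inferInstanceAs (Mono i.left))
  haveI : IsCommMonObj N := ⟨by
    rw [← cancel_mono i, Category.assoc, IsMonHom.mul_hom i, ← BraidedCategory.braiding_naturality_assoc,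
      IsCommMonObj.mul_comm]⟩
  haveI : IsFinite N.hom := by
    have hp : IsPullback i.left N.hom ψ.left η[H].left := hk.map (Over.forget _)
    exact MorphismProperty.of_isPullback (P := @IsFinite) hp inferInstance
  haveI : IsMonHom (1 : N ⟶ G) := ⟨by rw [MonObj.comp_one, MonObj.one_eq_one], by
    rw [MonObj.comp_one, MonObj.mul_eq_mul, MonObj.comp_mul, tensorHom_fst, tensorHom_snd, MonObj.comp_one,
      MonObj.comp_one, _root_.mul_one]⟩
  have h1 : i = 1 := hinj N i 1 (by rw [hk.w, MonObj.one_comp, Hom.one_def])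
  haveI : Mono ψ := ⟨fun {T} a b hab => by
    have h0 : (a * b⁻¹) ≫ ψ = toUnit T ≫ η[H] := by
      rw [MonObj.mul_comp, GrpObj.inv_comp, hab, mul_inv_cancel, Hom.one_def]
    have h2 : hk.lift (a * b⁻¹) (toUnit T) h0 ≫ i = a * b⁻¹ := hk.lift_fst _ _ _
    exact mul_inv_eq_one.mp (h2.symm.trans ((congrArg _ h1).trans (MonObj.comp_one _)))⟩
  haveI : Mono ψ.left := inferInstanceAs (Mono ((Over.forget _).map ψ))
  exact (IsClosedImmersion.iff_isProper_and_mono ψ.left).mpr ⟨inferInstance, inferInstance⟩

include K in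
theorem surjective_of_points
    (hpts : Function.Surjective fun x : Over.mk (Spec.map (CommRingCat.ofHom (algebraMap k K))) ⟶ G => x ≫ ψ)
    [IsClosedImmersion ψ.left] : Surjective ψ.left := by
  haveI : JacobsonSpace H.left := LocallyOfFiniteType.jacobsonSpace H.hom
  refine ⟨Set.range_eq_univ.1 ?_⟩
  refine Set.eq_univ_of_univ_subset ((closure_closedPoints (X := H.left)).symm.trans_le ?_)
  refine closure_minimal (fun z hz => ?_) ψ.left.isClosedEmbedding.isClosed_range
  obtain ⟨x, hx, hxz⟩ := exists_point_over_closed K H.hom z hz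
  obtain ⟨y, hy⟩ := hpts (Over.homMk x hx)
  refine ⟨y.left (IsLocalRing.closedPoint K), ?_⟩
  rw [← hxz]
  exact congrArg (fun t => t.left (IsLocalRing.closedPoint K)) hy

variable [IsCommMonObj H]

theorem flat_unit (p : ℕ) [Fact p.Prime] [CharP k p] [IsClosedImmersion ψ.left]
    (hsurj : ∀ (I : Over (Spec (CommRingCat.of k))) [GrpObj I] [IsCommMonObj I] [IsFinite I.hom]
      (h : I ⟶ H) [IsMonHom h], ∃ f : I ⟶ G, IsMonHom f ∧ f ≫ ψ = h) :
    (ψ.left.stalkMap (η[G].left (IsLocalRing.closedPoint k))).hom.Flat := by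
  let pt : ↥(Spec (CommRingCat.of k)) := IsLocalRing.closedPoint k
  obtain ⟨D⟩ := exists_nbhds H η[H]
  haveI := D.affU
  haveI := D.openι
  let q₀ := Limits.pullback.snd ψ.left D.uι.left
  let P₀ := Limits.pullback ψ.left D.uι.left
  haveI : IsClosedImmersion q₀ := inferInstanceAs (IsClosedImmersion (Limits.pullback.snd _ _))
  haveI : IsAffine P₀ := isAffine_of_isAffineHom q₀
  let zP : Spec (CommRingCat.of k) ⟶ P₀ := Limits.pullback.lift η[G].left D.u₀.left (by
    rw [← Over.comp_left, ← Over.comp_left, IsMonHom.one_hom, D.u₀_fac])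
  let z : P₀ := zP pt
  suffices hq : (q₀.stalkMap z).hom.Flat by
    have h := (S5223.result (IsPullback.of_hasPullback ψ.left D.uι.left) z).mp hq
    rw [show (Limits.pullback.fst ψ.left D.uι.left).base z = η[G].left pt by
      show (zP ≫ Limits.pullback.fst _ _) pt = _
      rw [Limits.pullback.lift_fst]
      rfl] at h
    exact h
  refine flat_stalkMap_of_forall_ker q₀ z fun a ha => ?_
  haveI : IsLocallyNoetherian D.U.left := by
    haveI : IsLocallyNoetherian H.left := LocallyOfFiniteType.isLocallyNoetherian H.hom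
    exact isLocallyNoetherian_of_isOpenImmersion D.uι.left
  haveI : IsNoetherianRing (Fn D.U) := IsLocallyNoetherian.component_noetherian ⟨⊤, isAffineOpen_top D.U.left⟩
  let M : Ideal (Fn D.U) := RingHom.ker (evPt D.u₀)
  have key : ∀ m : ℕ, (a : Fn D.U) ∈ M ^ p ^ m := by
    intro m
    haveI : ExpChar k p := ExpChar.prime Fact.out
    obtain ⟨I, gI, κ, hκ, hκm, hκc, hκf, -, -, -, hcrit⟩ := FrobQuot.exists_kernel p m H D
    haveI := hκ; haveI := hκm; haveI := hκf
    haveI : IsCommMonObj I := ⟨by
      rw [← cancel_mono κ, Category.assoc, IsMonHom.mul_hom κ, ← BraidedCategory.braiding_naturality_assoc,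
        IsCommMonObj.mul_comm]⟩
    obtain ⟨f, -, hf⟩ := hsurj I κ
    let J : Ideal (Fn D.U) := Ideal.span ((fun b => b ^ p ^ m) '' (M : Set (Fn D.U)))
    let R : Over (Spec (CommRingCat.of k)) := Over.mk (Spec.map (CommRingCat.ofHom (algebraMap k (Fn D.U ⧸ J))))
    haveI : IsAffine R.left := isAffine_Spec _
    obtain ⟨i, hi⟩ := exists_hom_ev (X := D.U) (T := R)
      ((spEquiv (k := k) (Fn D.U ⧸ J)).toAlgHom.comp (Ideal.Quotient.mkₐ k J))
    have hiJ : ∀ b, ev i b = 0 ↔ b ∈ J := fun b => by
      rw [hi]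
      exact ((spEquiv (k := k) (Fn D.U ⧸ J)).map_eq_zero_iff).trans Ideal.Quotient.eq_zero_iff_mem
    obtain ⟨g, hg⟩ := hcrit R i fun b hb => by
      rw [← map_pow, hiJ]
      exact Ideal.subset_span ⟨b, hb, rfl⟩
    let l : R.left ⟶ P₀ := Limits.pullback.lift (g ≫ f).left i.left (by
      rw [← Over.comp_left, ← Over.comp_left, Category.assoc, hf, hg])
    have haJ : (a : Fn D.U) ∈ J := (hiJ a).mp (by
      show i.left.appTop a = 0
      rw [← Limits.pullback.lift_snd (g ≫ f).left i.left (show (g ≫ f).left ≫ ψ.left = i.left ≫ D.uι.left by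
        rw [← Over.comp_left, ← Over.comp_left, Category.assoc, hf, hg]), Scheme.Hom.comp_appTop,
        CommRingCat.comp_apply]
      exact (congrArg _ ha).trans (map_zero _))
    refine (Ideal.span_le.mpr ?_) haJ
    rintro _ ⟨b, hb, rfl⟩
    exact Ideal.pow_mem_pow hb _
  have hmem : (a : Fn D.U) ∈ (⨅ n : ℕ, M ^ n • ⊤ : Submodule (Fn D.U) (Fn D.U)) := by
    refine Submodule.mem_iInf _ |>.2 fun n => ?_
    rw [smul_eq_mul, Ideal.mul_top]
    exact Ideal.pow_le_pow_right (Nat.lt_pow_self (Fact.out : p.Prime).one_lt).le (key n)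
  obtain ⟨r, hr⟩ := (M.mem_iInf_smul_pow_eq_bot_iff (a : Fn D.U)).mp hmem
  refine ⟨r.1, ?_, hr⟩
  rw [IsLocalRing.mem_maximalIdeal, mem_nonunits_iff]
  intro hu
  have hz : D.u₀.left pt = q₀ z := by
    show _ = (zP ≫ q₀) pt
    rw [Limits.pullback.lift_snd]
    rfl
  have hu' : IsUnit (D.U.left.presheaf.germ ⊤ (D.u₀.left pt) trivial r.1) := by
    generalize hw : q₀ z = w at hu hz
    subst hz
    exact hu
  have h2 := hu'.map (D.u₀.left.stalkMap pt).hom
  erw [Scheme.Hom.germ_stalkMap_apply] at h2
  have h0 : D.u₀.left.appTop r.1 = 0 := by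
    apply (ConcreteCategory.bijective_of_isIso (Scheme.ΓSpecIso (CommRingCat.of k)).hom).1
    rw [map_zero]
    exact RingHom.mem_ker.mp r.2
  erw [h0, map_zero] at h2
  exact not_isUnit_zero h2

include K in
theorem isIso
    (hinj : ∀ (I : Over (Spec (CommRingCat.of k))) [GrpObj I] [IsCommMonObj I] [IsFinite I.hom]
      (f g : I ⟶ G) [IsMonHom f] [IsMonHom g], f ≫ ψ = g ≫ ψ → f = g)
    (hsurj : ∀ (I : Over (Spec (CommRingCat.of k))) [GrpObj I] [IsCommMonObj I] [IsFinite I.hom]
      (h : I ⟶ H) [IsMonHom h], ∃ f : I ⟶ G, IsMonHom f ∧ f ≫ ψ = h)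
    (hpts : Function.Bijective fun x : Over.mk (Spec.map (CommRingCat.ofHom (algebraMap k K))) ⟶ G => x ≫ ψ) :
    IsIso ψ := by
  haveI := isClosedImmersion_of_injective K ψ hinj hpts.1
  haveI := surjective_of_points K ψ hpts.2
  suffices IsIso ψ.left by
    haveI : IsIso ((Over.forget _).map ψ) := this
    exact isIso_of_reflects_iso ψ (Over.forget _)
  rcases CharP.exists' k with h0 | ⟨p, hp, hc⟩
  · haveI := h0
    haveI : IsReduced H.left := by
      haveI := GrpSchLib.smooth_of_charZero H
      haveI : IsReduced (Spec (CommRingCat.of k)) := inferInstance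
      exact GrpSchLib.isReduced_of_smooth_field H.hom
    exact isIso_of_isClosedImmersion_of_surjective ψ.left
  · haveI := hp; haveI := hc
    haveI := flat_of_flat_unit ψ (flat_unit ψ p hsurj)
    haveI : IsLocallyNoetherian H.left := LocallyOfFiniteType.isLocallyNoetherian H.hom
    haveI : LocallyOfFinitePresentation ψ.left := inferInstance
    haveI : IsOpenImmersion ψ.left := IsOpenImmersion.of_flat_of_mono ψ.left
    exact (isIso_iff_isOpenImmersion_and_epi_base ψ.left).mpr
      ⟨inferInstance, (TopCat.epi_iff_surjective _).mpr ψ.left.surjective⟩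

end Groth.Agent.GrpPointIso
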